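import Groth.Agent.L02.KrullAkizuki
import Mathlib.RingTheory.EssentialFiniteness
import Mathlib.RingTheory.Localization.Submodule
import Mathlib.RingTheory.Localization.Integral
import Mathlib.RingTheory.DiscreteValuationRing.Basic
import Mathlib.RingTheory.Artinian.Ring
import Mathlib.RingTheory.TensorProduct.Maps
import Mathlib.RingTheory.IntegralClosure.IsIntegralClosure.Basic

/-!
# Integral closures in reduced compositions of an extension essentially of finite type
-/

universe u

open TensorProduct

namespace Groth.L05.EftClosure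

set_option linter.style.haveILetI false

theorem isIntegral_tensor {A B C : Type u} [CommRing A] [CommRing B] [CommRing C] [Algebra A B]
    [Algebra A C] [Algebra.IsIntegral A C] : Algebra.IsIntegral B (B ⊗[A] C) := ⟨fun z => by
  induction z using TensorProduct.induction_on with
  | zero => exact isIntegral_zero
  | add x y hx hy => exact hx.add hy
  | tmul b c =>
    rw [show b ⊗ₜ[A] c = algebraMap B (B ⊗[A] C) b * (Algebra.TensorProduct.includeRight (R := A) c) by
      simp]
    exact isIntegral_algebraMap.mul (((Algebra.IsIntegral.isIntegral (R := A) c).map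
      (Algebra.TensorProduct.includeRight : C →ₐ[A] B ⊗[A] C)).tower_top)⟩

theorem isNoetherianRing_closure_field {A B K' F : Type u} [CommRing A] [CommRing B] [IsDomain B]
    [Ring.DimensionLEOne B] [Algebra A B] [Algebra.EssFiniteType A B] [CommRing K'] [Algebra A K']
    (hA' : IsNoetherianRing (integralClosure A K'))
    (hmul : ∀ z : K', ∃ a : A, a ≠ 0 ∧ IsIntegral A (a • z))
    [Field F] [Algebra B F] [Algebra A F] [IsScalarTower A B F]
    (hβ : Function.Injective (algebraMap B F)) (hA : Function.Injective (algebraMap A B))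
    (κ : K' →ₐ[A] F) (hgen : Subfield.closure (Set.range (algebraMap B F) ∪ Set.range κ) = ⊤) :
    IsNoetherianRing (integralClosure B F) := by
  classical
  let φ : B ⊗[A] integralClosure A K' →ₐ[B] F :=
    Algebra.TensorProduct.lift (Algebra.ofId B F) (κ.comp (integralClosure A K').val)
      fun _ _ => Commute.all _ _
  have hφ : ∀ (b : B) (a : integralClosure A K'),
      φ (b ⊗ₜ[A] a) = algebraMap B F b * κ (a : K') := fun b a => by simp [φ]
  haveI : IsNoetherianRing (B ⊗[A] integralClosure A K') := by
    haveI := hA'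
    haveI : IsNoetherianRing (integralClosure A K' ⊗[A] B) :=
      Algebra.EssFiniteType.isNoetherianRing (integralClosure A K') _
    exact isNoetherianRing_of_ringEquiv _
      (Algebra.TensorProduct.comm A (integralClosure A K') B).toRingEquiv
  haveI : IsNoetherianRing φ.range :=
    isNoetherianRing_of_surjective (B ⊗[A] integralClosure A K') _ φ.rangeRestrict.toRingHom
      φ.rangeRestrict_surjective
  haveI : Algebra.IsIntegral A (integralClosure A K') := inferInstance
  haveI hint : Algebra.IsIntegral B φ.range := ⟨fun c => by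
    obtain ⟨z, rfl⟩ := φ.rangeRestrict_surjective c
    exact ((isIntegral_tensor (A := A) (B := B) (C := integralClosure A K')).isIntegral z).map _⟩
  haveI : Ring.DimensionLEOne φ.range := ⟨fun {P} hP0 hP => by
    obtain ⟨c, hc, hc0⟩ := Submodule.exists_mem_ne_zero_of_ne_bot hP0
    have h1 : P.comap (algebraMap B φ.range) ≠ ⊥ :=
      Ideal.comap_ne_bot_of_integral_mem hc0 hc (hint.isIntegral c)
    haveI := hP
    exact Ideal.isMaximal_of_isIntegral_of_isMaximal_comap (R := B) P
      ((hP.comap _).isMaximal_of_ne_bot h1)⟩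
  have hval : ∀ c : φ.range, algebraMap φ.range F c = (c : F) := fun _ => rfl
  haveI : FaithfulSMul φ.range F :=
    (faithfulSMul_iff_algebraMap_injective _ _).mpr Subtype.val_injective
  have hfrac : ∀ z : F, ∃ x y : φ.range, (y : F) ≠ 0 ∧ z = (x : F) / y := by
    have hB : ∀ b : B, algebraMap B F b ∈ φ.range := fun b => ⟨algebraMap B _ b, φ.commutes b⟩
    have hK : ∀ w : integralClosure A K', κ (w : K') ∈ φ.range := fun w =>
      ⟨(1 : B) ⊗ₜ[A] w, by simp [hφ]⟩
    let S : Subfield F :=
      { carrier := {z | ∃ x y : φ.range, (y : F) ≠ 0 ∧ z = (x : F) / y}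
        one_mem' := ⟨1, 1, by simp, by simp⟩
        zero_mem' := ⟨0, 1, by simp, by simp⟩
        mul_mem' := by
          rintro _ _ ⟨x, y, hy, rfl⟩ ⟨x', y', hy', rfl⟩
          exact ⟨x * x', y * y', by simp [hy, hy'], by push_cast; rw [div_mul_div_comm]⟩
        add_mem' := by
          rintro _ _ ⟨x, y, hy, rfl⟩ ⟨x', y', hy', rfl⟩
          exact ⟨x * y' + y * x', y * y', by simp [hy, hy'], by push_cast; rw [div_add_div _ _ hy hy']⟩
        neg_mem' := by
          rintro _ ⟨x, y, hy, rfl⟩
          exact ⟨-x, y, hy, by push_cast; rw [neg_div]⟩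
        inv_mem' := by
          rintro _ ⟨x, y, hy, rfl⟩
          by_cases hx : (x : F) = 0
          · exact ⟨0, 1, by simp, by simp [hx]⟩
          · exact ⟨y, x, hx, by rw [inv_div]⟩ }
    have hle : Subfield.closure (Set.range (algebraMap B F) ∪ Set.range κ) ≤ S := by
      rw [Subfield.closure_le]
      rintro _ (⟨b, rfl⟩ | ⟨z, rfl⟩)
      · exact ⟨⟨_, hB b⟩, 1, by simp, by simp⟩
      · obtain ⟨a, ha0, ha⟩ := hmul z
        have h0 : algebraMap A F a ≠ 0 := by
          rw [IsScalarTower.algebraMap_apply A B F]
          exact (map_ne_zero_iff _ hβ).mpr ((map_ne_zero_iff _ hA).mpr ha0)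
        refine ⟨⟨_, hK ⟨a • z, ha⟩⟩, ⟨_, hB (algebraMap A B a)⟩, ?_, ?_⟩
        · show algebraMap B F (algebraMap A B a) ≠ 0
          rwa [← IsScalarTower.algebraMap_apply]
        · show κ z = κ (a • z) / algebraMap B F (algebraMap A B a)
          rw [← IsScalarTower.algebraMap_apply, map_smul, Algebra.smul_def, mul_div_cancel_left₀ _ h0]
    intro z
    exact hle (hgen ▸ Subfield.mem_top z)
  haveI : IsFractionRing φ.range F := IsFractionRing.of_field _ _ fun z => by
    obtain ⟨x, y, -, h⟩ := hfrac z
    exact ⟨x, y, h⟩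
  have hD := (Groth.L02.KrullAkizuki.main (A := φ.range) (B := integralClosure φ.range F) F F).1
  let ψ : integralClosure φ.range F →+* integralClosure B F :=
    (integralClosure φ.range F).val.toRingHom.codRestrict _ fun x => isIntegral_trans (x : F) x.2
  exact isNoetherianRing_of_surjective _ _ ψ fun y => ⟨⟨(y : F), y.2.tower_top⟩, rfl⟩

theorem isNoetherianRing_closure {A B K L K' L' : Type u} [CommRing A] [IsDomain A] [CommRing B]
    [IsDomain B] [Ring.DimensionLEOne B] [Algebra A B] [Algebra.EssFiniteType A B]
    (hinj : Function.Injective (algebraMap A B))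
    [Field K] [Field L] [Algebra A K] [IsFractionRing A K] [Algebra B L] [IsFractionRing B L]
    [Algebra K L] [Algebra A L] [IsScalarTower A K L] [IsScalarTower A B L]
    [Field K'] [Algebra K K'] [Algebra A K'] [IsScalarTower A K K'] [Algebra.IsAlgebraic K K']
    (hA' : IsNoetherianRing (integralClosure A K'))
    [CommRing L'] [IsReduced L'] [Algebra K L'] [Algebra L L'] [Algebra K' L'] [Algebra B L']
    [IsScalarTower K L L'] [IsScalarTower K K' L'] [IsScalarTower B L L']
    (q : L ⊗[K] K' →ₐ[K] L') (hq : Function.Surjective q)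
    (hqL : ∀ y : L, q (y ⊗ₜ 1) = algebraMap L L' y) (hqK : ∀ z : K', q (1 ⊗ₜ z) = algebraMap K' L' z) :
    IsNoetherianRing (integralClosure B L') := by
  classical
  haveI : Algebra.EssFiniteType B L := .of_isLocalization L (nonZeroDivisors B)
  haveI : Algebra.EssFiniteType A L := .comp A B L
  haveI : Algebra.EssFiniteType K L := .of_comp A K L
  haveI : IsNoetherianRing (L ⊗[K] K') := by
    haveI : IsNoetherianRing (K' ⊗[K] L) := Algebra.EssFiniteType.isNoetherianRing K' _
    exact isNoetherianRing_of_ringEquiv _ (Algebra.TensorProduct.comm K K' L).toRingEquiv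
  haveI : IsNoetherianRing L' := isNoetherianRing_of_surjective _ _ q.toRingHom hq
  haveI : Algebra.IsIntegral L L' := ⟨fun z => by
    obtain ⟨t, rfl⟩ := hq z
    let q' : L ⊗[K] K' →ₐ[L] L' :=
      { q with
        commutes' := fun l => hqL l }
    exact ((isIntegral_tensor (A := K) (B := L) (C := K')).isIntegral t).map q'⟩
  haveI : Ring.KrullDimLE 0 L' := Ring.krullDimLE_zero_iff.mpr fun P hP =>
    haveI := hP
    Ideal.isMaximal_of_isIntegral_of_isMaximal_comap (R := L) P (by
      rw [← (Ideal.bot_isMaximal (K := L)).eq_of_le (hP.comap (algebraMap L L')).ne_top bot_le]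
      exact Ideal.bot_isMaximal)
  haveI : IsArtinianRing L' :=
    isArtinianRing_iff_isNoetherianRing_krullDimLE_zero.mpr ⟨inferInstance, inferInstance⟩
  letI : Algebra A L' := ((algebraMap B L').comp (algebraMap A B)).toAlgebra
  haveI : IsScalarTower A B L' := IsScalarTower.of_algebraMap_eq fun _ => rfl
  have htow : ∀ a : A, algebraMap A L' a = algebraMap K' L' (algebraMap A K' a) := fun a => by
    show algebraMap B L' (algebraMap A B a) = _
    rw [IsScalarTower.algebraMap_apply B L L', ← IsScalarTower.algebraMap_apply A B L,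
      IsScalarTower.algebraMap_apply A K L, ← IsScalarTower.algebraMap_apply K L L',
      IsScalarTower.algebraMap_apply K K' L', ← IsScalarTower.algebraMap_apply A K K']
  have hmul : ∀ z : K', ∃ a : A, a ≠ 0 ∧ IsIntegral A (a • z) := fun z => by
    have : IsAlgebraic A z :=
      (IsFractionRing.isAlgebraic_iff A K K').mpr (Algebra.IsAlgebraic.isAlgebraic z)
    exact this.exists_integral_multiple
  have key : ∀ M : MaximalSpectrum L', IsNoetherianRing (integralClosure B (L' ⧸ M.asIdeal)) := by
    intro M
    haveI := M.isMaximal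
    letI := Ideal.Quotient.field M.asIdeal
    let κ : K' →ₐ[A] L' ⧸ M.asIdeal :=
      { (Ideal.Quotient.mk M.asIdeal).comp (algebraMap K' L') with
        commutes' := fun a => congrArg (Ideal.Quotient.mk M.asIdeal) (htow a).symm }
    have hB : ∀ b : B, algebraMap B (L' ⧸ M.asIdeal) b =
        ((Ideal.Quotient.mk M.asIdeal).comp (algebraMap L L')) (algebraMap B L b) := fun b => by
      show Ideal.Quotient.mk M.asIdeal (algebraMap B L' b) = _
      rw [IsScalarTower.algebraMap_apply B L L']
      rfl
    refine isNoetherianRing_closure_field hA' hmul (fun b b' h => ?_) hinj κ ?_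
    · rw [hB, hB] at h
      exact IsFractionRing.injective B L (RingHom.injective _ h)
    · set S := Subfield.closure (Set.range (algebraMap B (L' ⧸ M.asIdeal)) ∪ Set.range κ)
      refine eq_top_iff.mpr fun z _ => ?_
      obtain ⟨x, rfl⟩ := Ideal.Quotient.mk_surjective z
      obtain ⟨t, rfl⟩ := hq x
      induction t using TensorProduct.induction_on with
      | zero => rw [map_zero, map_zero]; exact zero_mem _
      | add a b ha hb =>
        rw [map_add, map_add]
        exact add_mem (ha (Subfield.mem_top _)) (hb (Subfield.mem_top _))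
      | tmul l c =>
        rw [show l ⊗ₜ[K] c = (l ⊗ₜ[K] (1 : K')) * ((1 : L) ⊗ₜ[K] c) by simp, map_mul, hqL, hqK, map_mul]
        refine mul_mem ?_ (Subfield.subset_closure (Or.inr ⟨c, rfl⟩))
        obtain ⟨b, s, -, rfl⟩ := IsFractionRing.div_surjective (A := B) l
        rw [← RingHom.comp_apply, map_div₀, ← hB, ← hB]
        exact div_mem (Subfield.subset_closure (Or.inl ⟨b, rfl⟩))
          (Subfield.subset_closure (Or.inl ⟨s, rfl⟩))
  haveI := key
  let π : ∀ M : MaximalSpectrum L', L' →ₐ[B] L' ⧸ M.asIdeal := fun M => Ideal.Quotient.mkₐ B M.asIdeal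
  let Φ : integralClosure B L' →+* ∀ M : MaximalSpectrum L', integralClosure B (L' ⧸ M.asIdeal) :=
    RingHom.pi fun M => ((π M).toRingHom.comp (integralClosure B L').val.toRingHom).codRestrict _
      fun x => x.2.map (π M)
  have hΦ : ∀ x M, (Φ x M : L' ⧸ M.asIdeal) = Ideal.Quotient.mk M.asIdeal (x : L') := fun _ _ => rfl
  have hinjΦ : Function.Injective Φ := fun x y h =>
    Subtype.ext ((IsArtinianRing.equivPi L').injective (funext fun M =>
      congrArg Subtype.val (congrFun h M)))
  have hsurjΦ : Function.Surjective Φ := fun w => by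
    obtain ⟨x, hx⟩ := (IsArtinianRing.equivPi L').surjective fun M => (w M : L' ⧸ M.asIdeal)
    have hxM : ∀ M : MaximalSpectrum L', π M x = (w M : L' ⧸ M.asIdeal) := fun M => congrFun hx M
    haveI : Fintype (MaximalSpectrum L') := Fintype.ofFinite _
    choose p hp1 hp2 using fun M : MaximalSpectrum L' => (w M).2
    have hint : IsIntegral B x := by
      refine ⟨∏ M, p M, Polynomial.monic_prod_of_monic _ _ fun M _ => hp1 M, ?_⟩
      rw [← Polynomial.aeval_def]
      refine (IsArtinianRing.equivPi L').injective (funext fun M => ?_)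
      rw [map_zero, Pi.zero_apply]
      show π M (Polynomial.aeval x (∏ M, p M)) = 0
      rw [← Polynomial.aeval_algHom_apply, hxM, map_prod]
      exact Finset.prod_eq_zero (Finset.mem_univ M) (by rw [Polynomial.aeval_def]; exact hp2 M)
    exact ⟨⟨x, hint⟩, funext fun M => Subtype.ext (hxM M)⟩
  exact isNoetherianRing_of_ringEquiv _ (RingEquiv.ofBijective Φ ⟨hinjΦ, hsurjΦ⟩).symm

end Groth.L05.EftClosure
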